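import Cfsg.Agent.H367.Rec.Defs
import Cfsg.Agent.H376.Coc
import Cfsg.Agent.H420.Cover
import Cfsg.Agent.H870.CardT
import Cfsg.Agent.H171.ThreePrimes
import Mathlib

/-!
# Tools for the rows of S3397 / S3446 (helper496): primes dividing the order, cliques, primes of `(n / 2, n]`

* `prime_le` : the prime divisors of `|S|` are at most `n`;
* `card_le_of_cover` : a coclique has at most `c + 1` members if `c` cliques cover the primes;
* `om`, `five_le`, `six_le`, `seven_le` : the number of the primes of `(n / 2, n]`.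
-/

set_option autoImplicit false

namespace Cfsg.Agent.H496.RecTw

open Cfsg.Agent.H367.Rec Cfsg.Agent.H420.QR Finset

theorem sg_prime {p : ℕ} (hp : p.Prime) : sg p = p := by
  unfold sg
  rw [hp.primeFactors, sum_singleton, hp.factorization_self, pow_one]

theorem sg_mul_prime {p q : ℕ} (hp : p.Prime) (hq : q.Prime) (h : p ≠ q) : sg (p * q) = p + q := by
  unfold sg
  have h1 : (p * q).primeFactors = {p, q} := by
    rw [Nat.primeFactors_mul hp.ne_zero hq.ne_zero, hp.primeFactors, hq.primeFactors]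
    rfl
  rw [h1, sum_pair h, Nat.factorization_mul hp.ne_zero hq.ne_zero]
  simp only [Finsupp.add_apply]
  rw [hp.factorization_self, hq.factorization_self, hp.factorization, hq.factorization,
    Finsupp.single_apply, Finsupp.single_apply, if_neg h, if_neg (Ne.symm h)]
  simp

variable {S : Type*} [Group S] {n : ℕ}

/-- the prime divisors of the order are at most `n` -/
theorem prime_le [Finite S] (h : Cand n S) {p : ℕ} (hp : p.Prime) (hd : p ∣ Nat.card S) : p ≤ n := by
  have := Fact.mk hp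
  obtain ⟨x, hx⟩ := exists_prime_orderOf_dvd_card' p hd
  have h1 := h.sub x
  rwa [hx, sg_prime hp] at h1

/-- primes with a sum greater than `n` are not adjacent -/
theorem not_adj (h : Cand n S) {p q : ℕ} (hp : p.Prime) (hq : q.Prime) (hne : p ≠ q) (hs : n < p + q) :
    ¬ ∃ g : S, orderOf g = p * q := by
  rintro ⟨g, hg⟩
  have h1 := h.sub g
  rw [hg, sg_mul_prime hp hq hne] at h1
  omega

/-- all but at most one member of a coclique divide the order -/
theorem card_le_filter (h : Cand n S) {C : Finset ℕ} (hC : Coc n C) (h3 : 3 ≤ C.card) :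
    C.card ≤ (C.filter fun r => r ∣ Nat.card S).card + 1 := by
  classical
  have h1 : (C.filter fun r => ¬ r ∣ Nat.card S).card ≤ 1 := by
    rw [card_le_one]
    intro a ha b hb
    rw [mem_filter] at ha hb
    exact h.coc C hC h3 a ha.1 b hb.1 ha.2 hb.2
  have h2 := card_filter_add_card_filter_not (s := C) (fun r => r ∣ Nat.card S)
  omega

/-- a coclique has at most `c + 1` members if `c` cliques cover the primes -/
theorem card_le_of_cover (h : Cand n S) {Q c : ℕ} (hcov : Cover S Q c) {C : Finset ℕ} (hC : Coc n C)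
    (h3 : 3 ≤ C.card) (hC3 : ∀ r ∈ C, 3 < r) (hQ : ∀ r ∈ C, ¬ r ∣ Q) : C.card ≤ c + 1 := by
  classical
  refine (card_le_filter h hC h3).trans (Nat.add_le_add_right (hcov.card_le _ ?_ ?_) 1)
  · intro r hr
    rw [mem_filter] at hr
    exact ⟨hC.prime r hr.1, hC3 r hr.1, hQ r hr.1, hr.2⟩
  · intro r hr s hs hrs
    rw [mem_filter] at hr hs
    exact not_adj h (hC.prime r hr.1) (hC.prime s hs.1) hrs (hC.sum r hr.1 s hs.1 hrs)

/-- two members of a coclique do not divide the order -/
theorem false_of_missing (h : Cand n S) {C : Finset ℕ} (hC : Coc n C) (h3 : 3 ≤ C.card) {r s : ℕ} (hr : r ∈ C)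
    (hs : s ∈ C) (hrs : r ≠ s) (h1 : ¬ r ∣ Nat.card S) (h2 : ¬ s ∣ Nat.card S) : False :=
  hrs (h.coc C hC h3 r hr s hs h1 h2)

/-! ### the primes of `(n / 2, n]` -/

/-- the primes of `(n / 2, n]` -/
def om (n : ℕ) : Finset ℕ := (Finset.Ioc (n / 2) n).filter Nat.Prime

theorem mem_om {n p : ℕ} : p ∈ om n ↔ (n / 2 < p ∧ p ≤ n) ∧ p.Prime := by
  unfold om
  rw [mem_filter, mem_Ioc]

theorem coc_om (n : ℕ) : Coc n (om n) := by
  refine ⟨fun p hp => (mem_om.1 hp).2, fun p hp => (mem_om.1 hp).1.2, fun p hp q hq _ => ?_⟩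
  have h1 := (mem_om.1 hp).1.1
  have h2 := (mem_om.1 hq).1.1
  omega

theorem le_card {n : ℕ} (L : List ℕ) (hL : L.Nodup) (h : ∀ x ∈ L, n / 2 < x ∧ x ≤ n ∧ x.Prime) :
    L.length ≤ (om n).card := by
  classical
  rw [← List.toFinset_card_of_nodup hL]
  refine card_le_card fun x hx => ?_
  obtain ⟨a, b, c⟩ := h x (List.mem_toFinset.1 hx)
  exact mem_om.2 ⟨⟨a, b⟩, c⟩

theorem of_chk {n a b c0 : ℕ} (h1 : a ≤ n) (h2 : n < b)
    (h : Nat.ble (c0 + 1) (H870.CardT.cntF 20 ((b - 1) / 2) a) = true) (h0 : 1 ≤ c0) : c0 + 1 ≤ (om n).card := by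
  have h3 := H870.CardT.card_T_ge h1 h2 h
  have h4 : H357.Sp.T n = om n := rfl
  rw [h4] at h3
  omega

theorem seven_le {n : ℕ} (h : 59 ≤ n) : 7 ≤ (om n).card := by
  rcases Nat.lt_or_ge n 61 with h1 | h1
  · exact of_chk (a := 59) (b := 61) (c0 := 6) h h1 (by decide +kernel) (by norm_num)
  rcases Nat.lt_or_ge n 71 with h2 | h2
  · exact of_chk (a := 61) (b := 71) (c0 := 6) h1 h2 (by decide +kernel) (by norm_num)
  rcases Nat.lt_or_ge n 86 with h3 | h3
  · exact of_chk (a := 71) (b := 86) (c0 := 6) h2 h3 (by decide +kernel) (by norm_num)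
  rcases Nat.lt_or_ge n 118 with h4 | h4
  · exact of_chk (a := 86) (b := 118) (c0 := 6) h3 h4 (by decide +kernel) (by norm_num)
  rcases Nat.lt_or_ge n 178 with h5 | h5
  · exact of_chk (a := 118) (b := 178) (c0 := 6) h4 h5 (by decide +kernel) (by norm_num)
  rcases Nat.lt_or_ge n 278 with h6 | h6
  · exact of_chk (a := 178) (b := 278) (c0 := 6) h5 h6 (by decide +kernel) (by norm_num)
  rcases Nat.lt_or_ge n 482 with h7 | h7
  · exact of_chk (a := 278) (b := 482) (c0 := 6) h6 h7 (by decide +kernel) (by norm_num)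
  rcases Nat.lt_or_ge n 886 with h8 | h8
  · exact of_chk (a := 482) (b := 886) (c0 := 6) h7 h8 (by decide +kernel) (by norm_num)
  rcases Nat.lt_or_ge n 1706 with h9 | h9
  · exact of_chk (a := 886) (b := 1706) (c0 := 6) h8 h9 (by decide +kernel) (by norm_num)
  rcases Nat.lt_or_ge n 3200 with h10 | h10
  · exact of_chk (a := 1706) (b := 3200) (c0 := 6) h9 h10 (by decide +kernel) (by norm_num)
  have h11 := (H870.CardT.card_T (n := n) (by omega)).1
  have h4 : H357.Sp.T n = om n := rfl
  rw [h4] at h11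
  omega

theorem six_le {n : ℕ} (h : 47 ≤ n) : 6 ≤ (om n).card := by
  rcases Nat.lt_or_ge n 59 with h1 | h1
  · rcases Nat.lt_or_ge n 53 with h2 | h2
    · exact of_chk (a := 47) (b := 53) (c0 := 5) h h2 (by decide +kernel) (by norm_num)
    · exact of_chk (a := 53) (b := 59) (c0 := 5) h2 h1 (by decide +kernel) (by norm_num)
  · exact (by norm_num : 6 ≤ 7).trans (seven_le h1)

theorem five_le {n : ℕ} (h : 41 ≤ n) : 5 ≤ (om n).card := by
  rcases Nat.lt_or_ge n 47 with h1 | h1
  · rcases Nat.lt_or_ge n 43 with h2 | h2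
    · exact of_chk (a := 41) (b := 43) (c0 := 4) h h2 (by decide +kernel) (by norm_num)
    · exact of_chk (a := 43) (b := 47) (c0 := 4) h2 h1 (by decide +kernel) (by norm_num)
  · exact (by norm_num : 5 ≤ 6).trans (six_le h1)

theorem three_le {n : ℕ} (h : 17 ≤ n) : 3 ≤ (om n).card := by
  obtain ⟨p, q, r, hp, hq, hr, h1, h2, h3, h4⟩ := H171.ThreePrimes.exists_three_primes' n h
  refine le_card (n := n) [p, q, r] ?_ ?_
  · have a1 : p ≠ q := by omega
    have a2 : p ≠ r := by omega
    have a3 : q ≠ r := by omega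
    simp [a1, a2, a3]
  · intro x hx
    simp only [List.mem_cons, List.not_mem_nil, or_false] at hx
    rcases hx with rfl | rfl | rfl
    · exact ⟨by omega, by omega, hp⟩
    · exact ⟨by omega, by omega, hq⟩
    · exact ⟨by omega, by omega, hr⟩

end Cfsg.Agent.H496.RecTw
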