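import Cfsg.Agent.H496.RecTw.Base
import Cfsg.Agent.H436.Names
import Cfsg.Agent.H168.ExcCoc
import Mathlib

/-!
# Rows of S3397 / S3446: the groups of Suzuki and Ree type (helper496, task 2205)

* `row_sz`, `row_ree`, `row_tf4`.
-/

set_option autoImplicit false

namespace Cfsg.Agent.H496.RecTw

open Cfsg Cfsg.Agent.OrdDiv Cfsg.Agent.H436 Cfsg.Agent.H367.Rec Cfsg.Agent.H420.QR Finset

universe u

/-! ### arithmetic -/

theorem dvd_pred {a x l : ℕ} (ha : 1 ≤ a) (hx : x.Prime) (hl : l.Prime) (h : x ∣ a ^ l - 1) (h1 : ¬ x ∣ a - 1) :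
    l ∣ x - 1 := by
  have := Fact.mk hx
  have e1 : ∀ k : ℕ, x ∣ a ^ k - 1 ↔ ((a : ℕ) : ZMod x) ^ k = 1 := by
    intro k
    rw [← ZMod.natCast_eq_zero_iff, Nat.cast_sub (Nat.one_le_pow _ _ ha), Nat.cast_one, sub_eq_zero, Nat.cast_pow]
  have h2 : orderOf ((a : ℕ) : ZMod x) ∣ l := orderOf_dvd_of_pow_eq_one ((e1 l).1 h)
  have h3 : orderOf ((a : ℕ) : ZMod x) ≠ 1 := by
    intro h4
    rw [orderOf_eq_one_iff] at h4
    apply h1
    have h5 := (e1 1).2 (by rw [pow_one]; exact h4)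
    rwa [pow_one] at h5
  have h5 : orderOf ((a : ℕ) : ZMod x) = l := ((Nat.dvd_prime hl).1 h2).resolve_left h3
  rw [← h5]
  have hne : ((a : ℕ) : ZMod x) ≠ 0 := by
    intro h6
    have h7 := (e1 l).1 h
    rw [h6, zero_pow hl.ne_zero] at h7
    exact zero_ne_one h7
  exact orderOf_dvd_of_pow_eq_one (ZMod.pow_card_sub_one_eq_one hne)

theorem pow_sub_dvd {a l k : ℕ} (h : l ∣ k) : a ^ l - 1 ∣ a ^ k - 1 := by
  obtain ⟨g, rfl⟩ := h
  rw [pow_mul]
  have h3 := Nat.sub_dvd_pow_sub_pow (a ^ l) 1 g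
  rwa [one_pow] at h3

theorem pow_add_dvd {a l k : ℕ} (c : ℕ) (h : l ∣ k) (hk : Odd k) : a ^ (c * l) + 1 ∣ a ^ (c * k) + 1 := by
  obtain ⟨g, rfl⟩ := h
  have hg : Odd g := (Nat.odd_mul.1 hk).2
  rw [← mul_assoc, pow_mul a (c * l) g]
  have h1 : a ^ (c * l) + 1 ∣ (a ^ (c * l)) ^ g + 1 ^ g := hg.nat_add_dvd_pow_add_pow _ _
  rwa [one_pow] at h1

set_option synthInstance.maxSize 1024 in
theorem tab_two : ∀ x < 59, ∀ l < 59, x.Prime → l.Prime → l ≠ 2 → x ∣ 2 ^ l - 1 →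
    l = 3 ∨ l = 5 ∨ l = 11 ∨ l = 23 := by decide +kernel

set_option synthInstance.maxSize 1024 in
theorem tab_three : ∀ x < 47, ∀ l < 47, x.Prime → l.Prime → l ≠ 2 → x ≠ 2 → x ∣ 3 ^ l - 1 →
    l = 3 ∨ l = 5 ∨ l = 11 := by decide +kernel

theorem base_two {k : ℕ} (hk : Odd k) (hB : ∀ p : ℕ, p.Prime → p ∣ 2 ^ k - 1 → p ≤ 58) {l : ℕ} (hl : l.Prime)
    (hlk : l ∣ k) : l = 3 ∨ l = 5 := by
  have hl2 : l ≠ 2 := by
    rintro rfl
    exact (Nat.not_even_iff_odd.2 hk) ((even_iff_two_dvd).2 hlk)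
  have h2l : 2 ^ l - 1 ≠ 1 := by
    have h4 : 2 ^ 2 ≤ 2 ^ l := Nat.pow_le_pow_right (by norm_num) hl.two_le
    omega
  obtain ⟨x, hx, hxl⟩ := Nat.exists_prime_and_dvd h2l
  have h1 := hB x hx (hxl.trans (pow_sub_dvd hlk))
  have h2 := dvd_pred (by norm_num) hx hl hxl (fun h => hx.one_lt.ne' (Nat.dvd_one.1 h))
  have h3 : l ≤ x - 1 := Nat.le_of_dvd (by have := hx.two_le; omega) h2
  rcases tab_two x (by omega) l (by omega) hx hl hl2 hxl with h | h | h | h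
  · exact Or.inl h
  · exact Or.inr h
  · subst h
    have := hB 89 (by norm_num) ((by norm_num : 89 ∣ 2 ^ 11 - 1).trans (pow_sub_dvd hlk))
    omega
  · subst h
    have := hB 178481 (by norm_num) ((by norm_num : 178481 ∣ 2 ^ 23 - 1).trans (pow_sub_dvd hlk))
    omega

theorem base_three {k : ℕ} (hk : Odd k) (hB : ∀ p : ℕ, p.Prime → p ∣ 3 ^ k - 1 → p ≤ 46) {l : ℕ} (hl : l.Prime)
    (hlk : l ∣ k) : l = 3 ∨ l = 5 := by
  have hl2 : l ≠ 2 := by
    rintro rfl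
    exact (Nat.not_even_iff_odd.2 hk) ((even_iff_two_dvd).2 hlk)
  obtain ⟨j, hj⟩ := hl.odd_of_ne_two hl2
  have h3l : 3 ^ l = 3 * 9 ^ j := by
    rw [hj, pow_succ, pow_mul]
    norm_num
    ring
  have h9 : 9 ^ j % 8 = 1 := by
    rw [Nat.pow_mod]
    norm_num
  have h91 : 1 ≤ j := by
    have := hl.two_le
    omega
  have h92 : 9 ^ 1 ≤ 9 ^ j := Nat.pow_le_pow_right (by norm_num) h91
  obtain ⟨x, hx, hxl⟩ := Nat.exists_prime_and_dvd (n := (3 ^ l - 1) / 2) (by omega)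
  have hx2 : x ≠ 2 := by
    rintro rfl
    omega
  have hxl' : x ∣ 3 ^ l - 1 := by
    have h4 : 3 ^ l - 1 = 2 * ((3 ^ l - 1) / 2) := by omega
    rw [h4]
    exact hxl.mul_left 2
  have h1 := hB x hx (hxl'.trans (pow_sub_dvd hlk))
  have h2 := dvd_pred (by norm_num) hx hl hxl' (fun h => hx2 ((Nat.prime_dvd_prime_iff_eq hx Nat.prime_two).1 h))
  have h3 : l ≤ x - 1 := Nat.le_of_dvd (by have := hx.two_le; omega) h2
  rcases tab_three x (by omega) l (by omega) hx hl hl2 hx2 hxl' with h | h | h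
  · exact Or.inl h
  · exact Or.inr h
  · subst h
    have := hB 3851 (by norm_num) ((by norm_num : 3851 ∣ 3 ^ 11 - 1).trans (pow_sub_dvd hlk))
    omega

/-- a number all of whose prime divisors are `3` -/
theorem eq_three {k : ℕ} (hk : 1 < k) (h : ∀ l : ℕ, l.Prime → l ∣ k → l = 3) (h9 : ¬ 9 ∣ k) : k = 3 := by
  obtain ⟨l, hl, hlk⟩ := Nat.exists_prime_and_dvd hk.ne'
  obtain rfl := h l hl hlk
  obtain ⟨g, rfl⟩ := hlk
  by_cases hg : g = 1
  · rw [hg]
  · obtain ⟨l', hl', hlg⟩ := Nat.exists_prime_and_dvd hg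
    obtain rfl := h l' hl' (hlg.mul_left 3)
    exact absurd (mul_dvd_mul_left 3 hlg) h9

/-- members of `om n` are large -/
theorem om_bounds {n r : ℕ} (hn : 17 ≤ n) (hr : r ∈ om n) : 8 < r := by
  have := (mem_om.1 hr).1.1
  omega

theorem om_not_dvd {n r a : ℕ} (hn : 17 ≤ n) (hr : r ∈ om n) (ha : 0 < a) (ha8 : a ≤ 8) : ¬ r ∣ a := fun h => by
  have h1 := Nat.le_of_dvd ha h
  have h2 := om_bounds hn hr
  omega

theorem card_om_le {S : Type*} [Group S] {n Q c : ℕ} (h : Cand n S) (hcov : Cover S Q c) (hn : 17 ≤ n)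
    (hQ : 0 < Q) (hQ8 : Q ≤ 8) : (om n).card ≤ c + 1 :=
  card_le_of_cover h hcov (coc_om n) (three_le hn) (fun r hr => by have := om_bounds hn hr; omega)
    fun _ hr => om_not_dvd hn hr hQ hQ8

/-! ### the rows -/

/-- **`Sz(q)`** -/
theorem row_sz {S : Type u} [Group S] [Finite S] {n q : ℕ} (_ : 13 ≤ n) (hS : IsNamed (.sz q) S)
    (h : Cand n S) : Surv n (.sz q) := by
  obtain ⟨F, i1, i2, m, hm, hE, hu, ⟨e⟩⟩ := hS.real
  have hcov : Cover S 2 3 := H168.TwF4Cover.cover_suzuki ⟨F, i1, i2, m, hm, hE.trans hu, ⟨e⟩⟩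
  have heq : 1 * Nat.card S = q ^ 2 * ((q - 1) * (q ^ 2 + 1)) := hS.eq
  rw [one_mul] at heq
  have hn40 : n ≤ 40 := by
    by_contra hlt
    have h1 := five_le (n := n) (by omega)
    have h2 := card_om_le h hcov (by omega) (by norm_num) (by norm_num)
    omega
  have hk : Odd (2 * m + 1) := ⟨m, rfl⟩
  have d1 : ∀ p : ℕ, p.Prime → p ∣ 2 ^ (2 * m + 1) - 1 → p ≤ n := fun p hp hd => by
    refine prime_le h hp ?_
    rw [heq, hu]
    exact (hd.mul_right _).mul_left _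
  have d2 : ∀ p : ℕ, p.Prime → p ∣ 2 ^ (2 * (2 * m + 1)) + 1 → p ≤ n := fun p hp hd => by
    refine prime_le h hp ?_
    rw [heq, hu, ← pow_mul, mul_comm (2 * m + 1) 2]
    exact (hd.mul_left _).mul_left _
  have h3 : 2 * m + 1 = 3 := by
    refine eq_three (by omega) (fun l hl hlk => ?_) fun h9 => ?_
    · rcases base_two hk (fun p hp hd => (d1 p hp hd).trans (by omega)) hl hlk with h4 | h4
      · exact h4
      · subst h4
        have h5 := d2 41 (by norm_num) ((by norm_num : 41 ∣ 2 ^ (2 * 5) + 1).trans (pow_add_dvd 2 hlk hk))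
        omega
    · have h5 := d1 73 (by norm_num) ((by norm_num : 73 ∣ 2 ^ 9 - 1).trans (pow_sub_dvd h9))
      omega
  rw [h3] at hu
  have hq : q = 8 := by rw [hu]; norm_num
  refine ⟨?_, hq⟩
  by_contra hlt
  have h4 : 17 ≤ n := by omega
  have h5 := card_le_filter h (coc_om n) (three_le h4)
  have h6 := three_le h4
  have h7 : ((om n).filter fun r => r ∣ Nat.card S).card ≤ ({13} : Finset ℕ).card := by
    refine card_le_card fun r hr => ?_
    rw [mem_filter, heq, hq] at hr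
    obtain ⟨hr1, hr2⟩ := hr
    have hr3 := (mem_om.1 hr1).2
    have hr4 : r ∣ 2 ^ 6 * (7 * (5 * 13)) := by
      refine hr2.trans (dvd_of_eq ?_)
      norm_num
    have no : ∀ a : ℕ, 0 < a → a ≤ 8 → ¬ r ∣ a := fun a h1 h2 => om_not_dvd h4 hr1 h1 h2
    rcases (Nat.Prime.dvd_mul hr3).1 hr4 with a | a
    · exact absurd (hr3.dvd_of_dvd_pow a) (no 2 (by norm_num) (by norm_num))
    · rcases (Nat.Prime.dvd_mul hr3).1 a with a | a
      · exact absurd a (no 7 (by norm_num) (by norm_num))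
      · rcases (Nat.Prime.dvd_mul hr3).1 a with a | a
        · exact absurd a (no 5 (by norm_num) (by norm_num))
        · rw [mem_singleton]
          exact (Nat.prime_dvd_prime_iff_eq hr3 (by norm_num)).1 a
  rw [card_singleton] at h7
  omega

/-- **`²G₂(q)`** -/
theorem row_ree {S : Type u} [Group S] [Finite S] {n q : ℕ} (_ : 13 ≤ n) (hS : IsNamed (.ree q) S)
    (h : Cand n S) : Surv n (.ree q) := by
  exfalso
  obtain ⟨F, i1, i2, m, hm, hE, hu, ⟨e⟩⟩ := hS.real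
  have hcov : Cover S 3 4 := H168.TwF4Cover.cover_ree ⟨F, i1, i2, m, hm, hE.trans hu, ⟨e⟩⟩
  have heq : 1 * Nat.card S = q ^ 3 * ((q - 1) * (q ^ 3 + 1)) := hS.eq
  rw [one_mul] at heq
  have hn46 : n ≤ 46 := by
    by_contra hlt
    have h1 := six_le (n := n) (by omega)
    have h2 := card_om_le h hcov (by omega) (by norm_num) (by norm_num)
    omega
  have hk : Odd (2 * m + 1) := ⟨m, rfl⟩
  have d1 : ∀ p : ℕ, p.Prime → p ∣ 3 ^ (2 * m + 1) - 1 → p ≤ n := fun p hp hd => by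
    refine prime_le h hp ?_
    rw [heq, hu]
    exact (hd.mul_right _).mul_left _
  have d2 : ∀ p : ℕ, p.Prime → p ∣ 3 ^ (3 * (2 * m + 1)) + 1 → p ≤ n := fun p hp hd => by
    refine prime_le h hp ?_
    rw [heq, hu, ← pow_mul, mul_comm (2 * m + 1) 3]
    exact (hd.mul_left _).mul_left _
  have h3 : 2 * m + 1 = 3 := by
    refine eq_three (by omega) (fun l hl hlk => ?_) fun h9 => ?_
    · rcases base_three hk (fun p hp hd => (d1 p hp hd).trans (by omega)) hl hlk with h4 | h4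
      · exact h4
      · subst h4
        have h5 := d2 271 (by norm_num) ((by norm_num : 271 ∣ 3 ^ (3 * 5) + 1).trans (pow_add_dvd 3 hlk hk))
        omega
    · have h5 := d1 757 (by norm_num) ((by norm_num : 757 ∣ 3 ^ 9 - 1).trans (pow_sub_dvd h9))
      omega
  have h37 := d2 37 (by norm_num) (by rw [h3]; norm_num)
  rw [h3] at hu
  have hq : q = 27 := by rw [hu]; norm_num
  have m1 : (29 : ℕ) ∈ om n := mem_om.2 ⟨⟨by omega, by omega⟩, by norm_num⟩
  have m2 : (31 : ℕ) ∈ om n := mem_om.2 ⟨⟨by omega, by omega⟩, by norm_num⟩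
  refine false_of_missing h (coc_om n) (three_le (by omega)) m1 m2 (by norm_num) ?_ ?_
  · rw [heq, hq]; norm_num
  · rw [heq, hq]; norm_num

/-- **`²F₄(q)`** -/
theorem row_tf4 {S : Type u} [Group S] [Finite S] {n q : ℕ} (_ : 13 ≤ n) (hS : IsNamed (.tf4 q) S)
    (h : Cand n S) : Surv n (.tf4 q) := by
  exfalso
  obtain ⟨F, i1, i2, m, hm, hE, hu, ⟨e⟩⟩ := hS.real
  have hcov : Cover S 2 5 := Cover.congr e (H168.TwF4Cover.tf4_cover (hE.trans hu))
  have heq : 1 * Nat.card S = q ^ 12 * ((q - 1) * (q ^ 3 + 1) * (q ^ 4 - 1) * (q ^ 6 + 1)) := hS.eq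
  rw [one_mul] at heq
  have hn58 : n ≤ 58 := by
    by_contra hlt
    have h1 := seven_le (n := n) (by omega)
    have h2 := card_om_le h hcov (by omega) (by norm_num) (by norm_num)
    omega
  have hk : Odd (2 * m + 1) := ⟨m, rfl⟩
  have d1 : ∀ p : ℕ, p.Prime → p ∣ 2 ^ (2 * m + 1) - 1 → p ≤ n := fun p hp hd => by
    refine prime_le h hp ?_
    rw [heq, hu]
    exact (((hd.mul_right _).mul_right _).mul_right _).mul_left _
  have d2 : ∀ p : ℕ, p.Prime → p ∣ 2 ^ (6 * (2 * m + 1)) + 1 → p ≤ n := fun p hp hd => by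
    refine prime_le h hp ?_
    have h1 : (2 ^ (2 * m + 1)) ^ 6 = 2 ^ (6 * (2 * m + 1)) := by rw [← pow_mul, mul_comm (2 * m + 1) 6]
    rw [heq, hu, h1]
    exact (hd.mul_left _).mul_left _
  obtain ⟨l, hl, hlk⟩ := Nat.exists_prime_and_dvd (n := 2 * m + 1) (by omega)
  rcases base_two hk (fun p hp hd => (d1 p hp hd).trans (by omega)) hl hlk with h4 | h4
  · subst h4
    have h5 := d2 109 (by norm_num) ((by norm_num : 109 ∣ 2 ^ (6 * 3) + 1).trans (pow_add_dvd 6 hlk hk))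
    omega
  · subst h4
    have h5 := d2 61 (by norm_num) ((by norm_num : 61 ∣ 2 ^ (6 * 5) + 1).trans (pow_add_dvd 6 hlk hk))
    omega

end Cfsg.Agent.H496.RecTw
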